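/-
helper45: Hilbert 90 for `GL_n` over a field with an automorphism `σ` of finite order `r`:
if `A σ(A) ⋯ σ^{r-1}(A) = 1` then `A = B σ(B)⁻¹` for an invertible `B` (Speiser's averaging argument
with Dedekind's independence of characters).
-/
import Mathlib

set_option autoImplicit false

namespace Cfsg.Agent.Lib.Helper45.PSLField

open Matrix

variable {F : Type*} [Field F] {ι : Type*} [Fintype ι] [DecidableEq ι]

/-- the cocycle `a_i = A σ(A) ⋯ σ^{i-1}(A)` -/
def cocyc (σ : RingAut F) (A : Matrix ι ι F) : ℕ → Matrix ι ι F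
  | 0 => 1
  | (i + 1) => A * (cocyc σ A i).map σ

@[simp] theorem cocyc_zero (σ : RingAut F) (A : Matrix ι ι F) : cocyc σ A 0 = 1 := rfl

theorem cocyc_succ (σ : RingAut F) (A : Matrix ι ι F) (i : ℕ) :
    cocyc σ A (i + 1) = A * (cocyc σ A i).map σ := rfl

/-- the twisted trace of a vector -/
def tw (σ : RingAut F) (A : Matrix ι ι F) (r : ℕ) (v : ι → F) : ι → F :=
  ∑ i ∈ Finset.range r, (cocyc σ A i) *ᵥ (fun k => (σ ^ i) (v k))

theorem tw_smul (σ : RingAut F) (A : Matrix ι ι F) (r : ℕ) (c : F) (v : ι → F) :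
    tw σ A r (c • v) =
      ∑ i ∈ Finset.range r, (σ ^ i) c • ((cocyc σ A i) *ᵥ (fun k => (σ ^ i) (v k))) := by
  unfold tw
  apply Finset.sum_congr rfl
  intro i _
  rw [← Matrix.mulVec_smul]
  congr 1
  ext k
  simp only [Pi.smul_apply, smul_eq_mul, map_mul]

theorem pow_injOn (σ : RingAut F) {r : ℕ} (hσ : orderOf σ = r) :
    Function.Injective (fun i : Fin r => (((σ ^ (i : ℕ) : RingAut F) : F ≃+* F) : F →* F)) := by
  intro i j hij
  have h1 : (σ ^ (i : ℕ) : RingAut F) = σ ^ (j : ℕ) := by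
    apply RingEquiv.ext
    intro x
    exact DFunLike.congr_fun hij x
  have h2 := pow_injOn_Iio_orderOf (x := σ)
  apply Fin.ext
  apply h2 _ _ h1
  · rw [Set.mem_Iio, hσ]; exact i.2
  · rw [Set.mem_Iio, hσ]; exact j.2

theorem span_range_tw (σ : RingAut F) {r : ℕ} (hr : 0 < r) (hσ : orderOf σ = r)
    (A : Matrix ι ι F) : Submodule.span F (Set.range (tw σ A r)) = ⊤ := by
  by_contra hne
  obtain ⟨u, hu0, hu⟩ := Submodule.exists_le_ker_of_lt_top _ (lt_top_iff_ne_top.mpr hne)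
  apply hu0
  apply LinearMap.ext
  intro v
  have key : ∀ c : F, ∑ i ∈ Finset.range r,
      (u ((cocyc σ A i) *ᵥ (fun k => (σ ^ i) (v k)))) * (σ ^ i) c = 0 := by
    intro c
    have h1 : u (tw σ A r (c • v)) = 0 := hu (Submodule.subset_span ⟨_, rfl⟩)
    rw [tw_smul, map_sum] at h1
    rw [← h1]
    apply Finset.sum_congr rfl
    intro i _
    rw [map_smul, smul_eq_mul, mul_comm]
  have hli := (linearIndependent_monoidHom F F).comp _ (pow_injOn σ hσ)
  rw [Fintype.linearIndependent_iff] at hli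
  have h0 := hli (fun i => u ((cocyc σ A i) *ᵥ (fun k => (σ ^ (i : ℕ)) (v k)))) (by
    ext c
    simp only [Function.comp_apply, Finset.sum_apply, Pi.smul_apply, smul_eq_mul, Pi.zero_apply]
    have h5 := Fin.sum_univ_eq_sum_range
      (fun i => u ((cocyc σ A i) *ᵥ (fun k => (σ ^ i) (v k))) * (σ ^ i) c) r
    exact h5.trans (key c)) ⟨0, hr⟩
  simpa using h0

theorem tw_fixed (σ : RingAut F) {r : ℕ} (hσ : σ ^ r = 1) (A : Matrix ι ι F)
    (hA : cocyc σ A r = 1) (v : ι → F) :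
    A *ᵥ (fun k => σ (tw σ A r v k)) = tw σ A r v := by
  have h1 : (fun k => σ (tw σ A r v k)) =
      ∑ i ∈ Finset.range r, ((cocyc σ A i).map σ) *ᵥ (fun k => (σ ^ (i + 1)) (v k)) := by
    ext k
    unfold tw
    rw [Finset.sum_apply, Finset.sum_apply, map_sum]
    apply Finset.sum_congr rfl
    intro i _
    have := RingHom.map_mulVec (σ : F →+* F) (cocyc σ A i) (fun k => (σ ^ i) (v k)) k
    rw [RingHom.coe_coe] at this
    have h5 : ((σ : F → F) ∘ fun k => (σ ^ i) (v k)) = fun k => (σ ^ (i + 1)) (v k) := by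
      ext l
      rw [Function.comp_apply, pow_succ', RingAut.mul_apply]
    rw [this, h5]
  rw [h1, Matrix.mulVec_sum]
  have h2 : ∀ i ∈ Finset.range r,
      A *ᵥ (((cocyc σ A i).map σ) *ᵥ (fun k => (σ ^ (i + 1)) (v k))) =
        (cocyc σ A (i + 1)) *ᵥ (fun k => (σ ^ (i + 1)) (v k)) := by
    intro i _
    rw [Matrix.mulVec_mulVec, cocyc_succ]
  rw [Finset.sum_congr rfl h2]
  have h3 := Finset.sum_range_succ
    (fun i => (cocyc σ A i) *ᵥ (fun k => (σ ^ i) (v k))) r
  have h4 := Finset.sum_range_succ'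
    (fun i => (cocyc σ A i) *ᵥ (fun k => (σ ^ i) (v k))) r
  rw [h3] at h4
  simp only [hA, hσ, cocyc_zero, pow_zero, Matrix.one_mulVec, RingAut.one_apply] at h4
  unfold tw
  exact (add_right_cancel h4).symm

/-- **Hilbert 90** for `GL_n`: a matrix `A` with `A σ(A) ⋯ σ^{r-1}(A) = 1` is `B σ(B)⁻¹`. -/
theorem hilbert90_matrix (σ : RingAut F) {r : ℕ} (hr : 0 < r) (hσ : orderOf σ = r)
    (A : Matrix ι ι F) (hA : cocyc σ A r = 1) :
    ∃ B : Matrix ι ι F, IsUnit B ∧ A * B.map σ = B := by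
  obtain ⟨b, hb, hsp, hli⟩ := exists_linearIndependent F (Set.range (tw σ A r))
  rw [span_range_tw σ hr hσ A] at hsp
  let bas : Module.Basis b F (ι → F) :=
    Module.Basis.mk hli (by rw [Subtype.range_coe]; exact hsp.ge)
  let e : ι ≃ b := (Pi.basisFun F ι).indexEquiv bas
  have hex : ∀ l : ι, ∃ v : ι → F, tw σ A r v = (e l : ι → F) := fun l => hb (e l).2
  choose v hv using hex
  refine ⟨Matrix.of (fun m l => (e l : ι → F) m), ?_, ?_⟩
  · rw [← Matrix.linearIndependent_cols_iff_isUnit]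
    exact hli.comp e e.injective
  · have hσr : σ ^ r = 1 := by rw [← hσ]; exact pow_orderOf_eq_one σ
    ext m l
    have h1 := congrFun (tw_fixed σ hσr A hA (v l)) m
    rw [hv l] at h1
    rw [Matrix.of_apply, ← h1, Matrix.mul_apply]
    rfl

end Cfsg.Agent.Lib.Helper45.PSLField
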