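/-
helper45: the norm `a ↦ a σ(a) ⋯ σ^{r-1}(a)` of a finite field with an automorphism of order `r`:
scalar Hilbert 90 and surjectivity onto the fixed field.
-/
import Cfsg.Agent.Lib.Helper45.PSLField.Hilbert90

set_option autoImplicit false

namespace Cfsg.Agent.Lib.Helper45.PSLField

open Matrix

variable {F : Type*} [Field F]

/-- partial norms `a σ(a) ⋯ σ^{i-1}(a)` -/
def nrm (σ : RingAut F) (a : F) (i : ℕ) : F := ∏ j ∈ Finset.range i, (σ ^ j) a

@[simp] theorem nrm_zero (σ : RingAut F) (a : F) : nrm σ a 0 = 1 := by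
  unfold nrm; rw [Finset.range_zero, Finset.prod_empty]

theorem nrm_succ' (σ : RingAut F) (a : F) (i : ℕ) : nrm σ a (i + 1) = nrm σ a i * (σ ^ i) a := by
  unfold nrm; rw [Finset.prod_range_succ]

theorem nrm_succ (σ : RingAut F) (a : F) (i : ℕ) : nrm σ a (i + 1) = a * σ (nrm σ a i) := by
  unfold nrm
  rw [Finset.prod_range_succ', map_prod, pow_zero, RingAut.one_apply, mul_comm]
  congr 1
  apply Finset.prod_congr rfl
  intro j _
  rw [pow_succ', RingAut.mul_apply]

theorem nrm_mul (σ : RingAut F) (a b : F) (i : ℕ) : nrm σ (a * b) i = nrm σ a i * nrm σ b i := by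
  unfold nrm
  rw [← Finset.prod_mul_distrib]
  apply Finset.prod_congr rfl
  intro j _
  rw [map_mul]

@[simp] theorem nrm_one (σ : RingAut F) (i : ℕ) : nrm σ 1 i = 1 := by
  unfold nrm
  apply Finset.prod_eq_one
  intro j _
  rw [map_one]

theorem nrm_ne_zero (σ : RingAut F) {a : F} (ha : a ≠ 0) (i : ℕ) : nrm σ a i ≠ 0 := by
  unfold nrm
  rw [Finset.prod_ne_zero_iff]
  intro j _
  exact (map_ne_zero _).mpr ha

theorem map_nrm (σ : RingAut F) {r : ℕ} (hσ : σ ^ r = 1) (a : F) :
    σ (nrm σ a r) = nrm σ a r := by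
  rcases eq_or_ne a 0 with rfl | ha
  · rcases Nat.eq_zero_or_pos r with rfl | hr
    · rw [nrm_zero, map_one]
    · have : nrm σ (0 : F) r = 0 := by
        unfold nrm
        apply Finset.prod_eq_zero (Finset.mem_range.mpr hr)
        rw [map_zero]
      rw [this, map_zero]
  · have h1 := nrm_succ σ a r
    rw [nrm_succ', hσ, RingAut.one_apply, mul_comm] at h1
    exact (mul_left_cancel₀ ha h1).symm

variable {ι : Type*} [Fintype ι] [DecidableEq ι]

theorem cocyc_smul (σ : RingAut F) (a : F) (A : Matrix ι ι F) (i : ℕ) :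
    cocyc σ (a • A) i = nrm σ a i • cocyc σ A i := by
  induction i with
  | zero => rw [cocyc_zero, cocyc_zero, nrm_zero, one_smul]
  | succ i ih =>
    rw [cocyc_succ, cocyc_succ, ih, nrm_succ]
    ext k l
    simp only [Matrix.mul_apply, Matrix.smul_apply, Matrix.map_apply, smul_eq_mul, map_mul,
      Finset.mul_sum]
    apply Finset.sum_congr rfl
    intro m _
    ring

theorem cocyc_one (σ : RingAut F) (i : ℕ) : cocyc σ (1 : Matrix ι ι F) i = 1 := by
  induction i with
  | zero => rfl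
  | succ i ih =>
    rw [cocyc_succ, ih, one_mul]
    ext k l
    by_cases h : k = l
    · rw [h, Matrix.map_apply, Matrix.one_apply_eq, map_one]
    · rw [Matrix.map_apply, Matrix.one_apply_ne h, map_zero]

/-- the alternative recursion `a_{i+1} = a_i σ^i(A)` -/
theorem cocyc_succ' (σ : RingAut F) (A : Matrix ι ι F) (i : ℕ) :
    cocyc σ A (i + 1) = cocyc σ A i * A.map (σ ^ i) := by
  induction i with
  | zero =>
    rw [cocyc_succ, cocyc_zero, one_mul, pow_zero]
    have h1 : ((1 : Matrix ι ι F).map σ) = 1 := by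
      ext k l
      by_cases h : k = l
      · rw [h, Matrix.map_apply, Matrix.one_apply_eq, map_one]
      · rw [Matrix.map_apply, Matrix.one_apply_ne h, map_zero]
    rw [h1, mul_one]
    ext k l
    rfl
  | succ i ih =>
    rw [cocyc_succ σ A (i + 1), ih]
    have h1 : (cocyc σ A i * A.map (σ ^ i)).map σ =
        (cocyc σ A i).map σ * A.map (σ ^ (i + 1)) := by
      have h2 : (A.map (σ ^ i)).map σ = A.map (σ ^ (i + 1)) := by
        ext k l
        rw [Matrix.map_apply, Matrix.map_apply, Matrix.map_apply, pow_succ', RingAut.mul_apply]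
      rw [← h2]
      exact Matrix.map_mul (f := (σ : F →+* F))
    rw [h1, ← mul_assoc, ← cocyc_succ, ih]

/-- scalar **Hilbert 90** -/
theorem hilbert90_scalar (σ : RingAut F) {r : ℕ} (hr : 0 < r) (hσ : orderOf σ = r)
    (a : F) (ha : nrm σ a r = 1) : ∃ b : F, b ≠ 0 ∧ a * σ b = b := by
  have h1 : cocyc σ (a • (1 : Matrix Unit Unit F)) r = 1 := by
    rw [cocyc_smul, cocyc_one, ha, one_smul]
  obtain ⟨B, hB, hAB⟩ := hilbert90_matrix σ hr hσ _ h1
  refine ⟨B () (), ?_, ?_⟩
  · intro h0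
    have hB0 : B = 0 := by
      ext i j
      exact h0
    rw [hB0] at hB
    exact not_isUnit_zero hB
  · have := congrFun (congrFun hAB ()) ()
    rw [Matrix.mul_apply] at this
    simpa using this

/-- the norm as a homomorphism of the unit group -/
noncomputable def nrmHom (σ : RingAut F) (r : ℕ) : Fˣ →* Fˣ where
  toFun a := Units.mk0 (nrm σ (a : F) r) (nrm_ne_zero σ a.ne_zero r)
  map_one' := by
    apply Units.ext
    show nrm σ ((1 : Fˣ) : F) r = 1
    rw [Units.val_one, nrm_one]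
  map_mul' a b := by
    apply Units.ext
    show nrm σ ((a * b : Fˣ) : F) r = nrm σ (a : F) r * nrm σ (b : F) r
    rw [Units.val_mul, nrm_mul]

theorem nrmHom_apply (σ : RingAut F) (r : ℕ) (a : Fˣ) :
    ((nrmHom σ r a : Fˣ) : F) = nrm σ (a : F) r := rfl

/-- the map `b ↦ b / σ b` on units -/
def quoHom (σ : RingAut F) : Fˣ →* Fˣ where
  toFun b := b / Units.map ((σ : F ≃+* F) : F →* F) b
  map_one' := by simp
  map_mul' a b := by
    rw [map_mul]
    exact mul_div_mul_comm _ _ _ _

theorem quoHom_apply (σ : RingAut F) (b : Fˣ) :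
    ((quoHom σ b : Fˣ) : F) = (b : F) / σ b := by
  change ((b / Units.map ((σ : F ≃+* F) : F →* F) b : Fˣ) : F) = _
  rw [Units.val_div_eq_div_val]
  rfl

theorem mem_ker_quoHom (σ : RingAut F) (b : Fˣ) : b ∈ (quoHom σ).ker ↔ σ (b : F) = b := by
  rw [MonoidHom.mem_ker, Units.ext_iff, quoHom_apply, Units.val_one,
    div_eq_one_iff_eq ((map_ne_zero _).mpr b.ne_zero)]
  exact eq_comm

theorem nrm_map (σ : RingAut F) (a : F) (i : ℕ) : nrm σ (σ a) i = σ (nrm σ a i) := by
  unfold nrm
  rw [map_prod]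
  apply Finset.prod_congr rfl
  intro j _
  rw [← RingAut.mul_apply, ← RingAut.mul_apply, ← pow_succ, ← pow_succ']

theorem ker_nrmHom (σ : RingAut F) {r : ℕ} (hr : 0 < r) (hσ : orderOf σ = r) :
    (nrmHom σ r).ker = (quoHom σ).range := by
  have hσr : σ ^ r = 1 := by rw [← hσ]; exact pow_orderOf_eq_one σ
  ext a
  rw [MonoidHom.mem_ker, Units.ext_iff, nrmHom_apply, Units.val_one]
  constructor
  · intro h
    obtain ⟨b, hb0, hb⟩ := hilbert90_scalar σ hr hσ (a : F) h
    refine ⟨Units.mk0 b hb0, ?_⟩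
    ext
    rw [quoHom_apply, Units.val_mk0, div_eq_iff ((map_ne_zero _).mpr hb0)]
    exact hb.symm
  · rintro ⟨b, rfl⟩
    rw [quoHom_apply, div_eq_mul_inv, nrm_mul, ← map_inv₀, nrm_map, map_nrm σ hσr]
    rw [← nrm_mul, mul_inv_cancel₀ b.ne_zero, nrm_one]

/-- the norm of a finite field is surjective onto the fixed field -/
theorem exists_nrm_eq [Finite F] (σ : RingAut F) {r : ℕ} (hr : 0 < r) (hσ : orderOf σ = r)
    (c : F) (hc0 : c ≠ 0) (hc : σ c = c) : ∃ a : F, a ≠ 0 ∧ nrm σ a r = c := by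
  classical
  have hσr : σ ^ r = 1 := by rw [← hσ]; exact pow_orderOf_eq_one σ
  have hker_eq := ker_nrmHom σ hr hσ
  have h1 : Nat.card (nrmHom σ r).ker * Nat.card (nrmHom σ r).range = Nat.card Fˣ := by
    rw [← Subgroup.index_ker]; exact Subgroup.card_mul_index _
  have h2 : Nat.card (quoHom σ).ker * Nat.card (quoHom σ).range = Nat.card Fˣ := by
    rw [← Subgroup.index_ker]; exact Subgroup.card_mul_index _
  have hpos : 0 < Nat.card (nrmHom σ r).ker := Nat.card_pos
  have hcard : Nat.card (quoHom σ).ker = Nat.card (nrmHom σ r).range := by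
    rw [hker_eq] at h1 hpos
    have : Nat.card (quoHom σ).range * Nat.card (nrmHom σ r).range
        = Nat.card (quoHom σ).range * Nat.card (quoHom σ).ker := by
      rw [h1, mul_comm, h2]
    exact (Nat.eq_of_mul_eq_mul_left hpos this).symm
  have hle : (nrmHom σ r).range ≤ (quoHom σ).ker := by
    rintro _ ⟨a, rfl⟩
    rw [mem_ker_quoHom, nrmHom_apply, map_nrm σ hσr]
  have heq : (nrmHom σ r).range = (quoHom σ).ker :=
    Subgroup.eq_of_le_of_card_ge hle hcard.le
  have hmem : Units.mk0 c hc0 ∈ (quoHom σ).ker := by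
    rw [mem_ker_quoHom, Units.val_mk0, hc]
  rw [← heq] at hmem
  obtain ⟨a, ha⟩ := hmem
  refine ⟨(a : F), a.ne_zero, ?_⟩
  have := congrArg Units.val ha
  rwa [nrmHom_apply, Units.val_mk0] at this

end Cfsg.Agent.Lib.Helper45.PSLField
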