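/-
helper45: the coset `Inndiag · φ_σ` of a standard field automorphism of `PSL_n(F)`, `F` finite:
an element of the coset whose `r`-th power is trivial (`r` the order of `σ`) is conjugate to `φ_σ`
under `Inndiag` (Hilbert 90 for `GL_n` plus surjectivity of the norm).
-/
import Cfsg.Agent.Lib.Helper45.PSLField.Norm
import Cfsg.Agent.Lib.Helper43.PSLnAutCard
import Cfsg.Agent.S2690

set_option autoImplicit false

namespace Cfsg.Agent.Lib.Helper45.PSLField

open Matrix Cfsg.Agent.Lib.Helper43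

variable {n : ℕ} {F : Type*} [Field F]

theorem inndiagPSL_eq_range :
    Cfsg.inndiagPSL n F =
      (pslDiag : GL (Fin n) F →* MulAut (Matrix.ProjectiveSpecialLinearGroup (Fin n) F)).range := by
  unfold Cfsg.inndiagPSL Cfsg.autSubgroupOf
  have h : {β : MulAut (Matrix.ProjectiveSpecialLinearGroup (Fin n) F) |
      Cfsg.IsInnerDiagonalAutPSL β} =
      ((pslDiag : GL (Fin n) F →* MulAut (Matrix.ProjectiveSpecialLinearGroup (Fin n) F)).range :
        Set _) := by
    ext β
    rw [Set.mem_ofPred_eq, isInnerDiagonalAutPSL_iff]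
    constructor
    · rintro ⟨g, rfl⟩; exact ⟨g, rfl⟩
    · rintro ⟨g, rfl⟩; exact ⟨g, rfl⟩
  rw [h, Subgroup.closure_eq]

theorem mem_inndiagPSL_iff (β : MulAut (Matrix.ProjectiveSpecialLinearGroup (Fin n) F)) :
    β ∈ Cfsg.inndiagPSL n F ↔ ∃ g : GL (Fin n) F, pslDiag g = β := by
  rw [inndiagPSL_eq_range]; rfl

/-- all automorphisms of `PSL_n(F)` are standard (`F` finite), from S2690 -/
theorem allStdAut_finite [Fintype F] {p f : ℕ} [Fact p.Prime] (hF : Fintype.card F = p ^ f)
    (hf : 1 ≤ f) (hn : 2 ≤ n) (hs : n = 2 → 4 ≤ Fintype.card F) : AllStdAut n F :=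
  allStdAut_of_decomp (fun β => Cfsg.Agent.S2690.result hF hf hn hs β)

/-- `Inndiag` is normalised by every standard automorphism -/
theorem conj_pslDiag (hstd : AllStdAut n F)
    (α : MulAut (Matrix.ProjectiveSpecialLinearGroup (Fin n) F)) (g : GL (Fin n) F) :
    ∃ g' : GL (Fin n) F, α * pslDiag g * α⁻¹ = pslDiag g' := by
  obtain ⟨p, h, rfl⟩ := hstd α
  obtain ⟨g₂, hg₂⟩ := pslGraph_mul_pslDiag p.2 g
  have h1 := pslField_mul_pslDiag p.1 g₂
  refine ⟨h * Matrix.GeneralLinearGroup.map (p.1 : F →+* F) g₂ * h⁻¹, ?_⟩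
  rw [mul_inv_eq_iff_eq_mul]
  calc pslDiag h * pslField p.1 * pslGraph p.2 * pslDiag g
      = pslDiag h * pslField p.1 * (pslGraph p.2 * pslDiag g) := by simp only [mul_assoc]
    _ = pslDiag h * (pslField p.1 * pslDiag g₂) * pslGraph p.2 := by
        rw [hg₂]; simp only [mul_assoc]
    _ = pslDiag (h * Matrix.GeneralLinearGroup.map (p.1 : F →+* F) g₂ * h⁻¹) *
          (pslDiag h * pslField p.1 * pslGraph p.2) := by
        rw [h1, map_mul, map_mul, map_inv]; simp only [mul_assoc, inv_mul_cancel_left]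

theorem conj_mem_inndiag (hstd : AllStdAut n F)
    (α : MulAut (Matrix.ProjectiveSpecialLinearGroup (Fin n) F))
    {δ : MulAut (Matrix.ProjectiveSpecialLinearGroup (Fin n) F)}
    (hδ : δ ∈ Cfsg.inndiagPSL n F) : α * δ * α⁻¹ ∈ Cfsg.inndiagPSL n F := by
  obtain ⟨g, rfl⟩ := (mem_inndiagPSL_iff δ).mp hδ
  obtain ⟨g', hg'⟩ := conj_pslDiag hstd α g
  exact (mem_inndiagPSL_iff _).mpr ⟨g', hg'.symm⟩

/-- transfer of `Inndiag`-conjugacy along a conjugation by an arbitrary automorphism -/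
theorem isConjUnder_of_conj (hstd : AllStdAut n F)
    (α x δ : MulAut (Matrix.ProjectiveSpecialLinearGroup (Fin n) F))
    (h : Cfsg.IsConjUnder (Cfsg.inndiagPSL n F) (α * x * α⁻¹) (α * δ * α⁻¹ * (α * x * α⁻¹))) :
    Cfsg.IsConjUnder (Cfsg.inndiagPSL n F) x (δ * x) := by
  obtain ⟨k, hk, hk2⟩ := h
  refine ⟨α⁻¹ * k * α, ?_, ?_⟩
  · have := conj_mem_inndiag hstd α⁻¹ hk
    rwa [inv_inv] at this
  · have h1 : δ * x = α⁻¹ * (α * δ * α⁻¹ * (α * x * α⁻¹)) * α := by group
    rw [h1, hk2]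
    group

theorem pslField_injective (hn : 2 ≤ n) :
    Function.Injective
      (pslField : RingAut F →* MulAut (Matrix.ProjectiveSpecialLinearGroup (Fin n) F)) := by
  rw [injective_iff_map_eq_one]
  intro σ hσ
  have h1 : (pslDiag (1 : GL (Fin n) F) :
      MulAut (Matrix.ProjectiveSpecialLinearGroup (Fin n) F)) * pslField σ = 1 := by
    rw [map_one, one_mul, hσ]
  exact (eq_one_of_pslDiag_mul_pslField_eq_one hn _ _ h1).1

theorem orderOf_pslField (hn : 2 ≤ n) (σ : RingAut F) :
    orderOf (pslField σ : MulAut (Matrix.ProjectiveSpecialLinearGroup (Fin n) F)) = orderOf σ :=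
  orderOf_injective _ (pslField_injective hn) σ

/-- powers of an element of the coset `Inndiag · φ_σ` -/
theorem pow_diag_field (g : GL (Fin n) F) (σ : RingAut F) (i : ℕ) :
    ∃ gi : GL (Fin n) F, (gi : Matrix (Fin n) (Fin n) F) = cocyc σ (g : Matrix (Fin n) (Fin n) F) i ∧
      ((pslDiag g : MulAut (Matrix.ProjectiveSpecialLinearGroup (Fin n) F)) * pslField σ) ^ i =
        pslDiag gi * pslField (σ ^ i) := by
  induction i with
  | zero => exact ⟨1, rfl, by rw [pow_zero, pow_zero, map_one, map_one, one_mul]⟩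
  | succ i ih =>
    obtain ⟨gi, hgi, hpow⟩ := ih
    refine ⟨g * Matrix.GeneralLinearGroup.map (σ : F →+* F) gi, ?_, ?_⟩
    · rw [cocyc_succ, ← hgi]
      rfl
    · rw [pow_succ', hpow, pow_succ', map_mul, map_mul]
      have h1 := pslField_mul_pslDiag (n := n) σ gi
      calc pslDiag g * pslField σ * (pslDiag gi * pslField (σ ^ i))
          = pslDiag g * (pslField σ * pslDiag gi) * pslField (σ ^ i) := by simp only [mul_assoc]
        _ = _ := by rw [h1]; simp only [mul_assoc]

/-- conjugating `φ_σ` by an inner-diagonal automorphism -/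
theorem conj_pslField (B : GL (Fin n) F) (σ : RingAut F) :
    (pslDiag B : MulAut (Matrix.ProjectiveSpecialLinearGroup (Fin n) F)) * pslField σ *
      (pslDiag B)⁻¹ =
      pslDiag (B * (Matrix.GeneralLinearGroup.map (σ : F →+* F) B)⁻¹) * pslField σ := by
  have h1 := pslField_mul_pslDiag (n := n) σ B
  rw [mul_inv_eq_iff_eq_mul, map_mul, map_inv]
  calc pslDiag B * pslField σ
      = pslDiag B * (pslDiag (Matrix.GeneralLinearGroup.map (σ : F →+* F) B))⁻¹ *
          (pslDiag (Matrix.GeneralLinearGroup.map (σ : F →+* F) B) * pslField σ) := by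
        simp only [mul_assoc, inv_mul_cancel_left]
    _ = _ := by rw [← h1]; simp only [mul_assoc]

/-- **the coset of a field automorphism**: elements of `Inndiag · φ_σ` killed by the order of `σ`
are `Inndiag`-conjugate to `φ_σ` -/
theorem field_coset_conj [Finite F] (hn : 2 ≤ n) (σ : RingAut F) {r : ℕ} (hr : 0 < r)
    (hσ : orderOf σ = r) (g : GL (Fin n) F)
    (h : ((pslDiag g : MulAut (Matrix.ProjectiveSpecialLinearGroup (Fin n) F)) *
      pslField σ) ^ r = 1) :
    ∃ B : GL (Fin n) F,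
      (pslDiag g : MulAut (Matrix.ProjectiveSpecialLinearGroup (Fin n) F)) * pslField σ =
        pslDiag B * pslField σ * (pslDiag B)⁻¹ := by
  have hσr : σ ^ r = 1 := by rw [← hσ]; exact pow_orderOf_eq_one σ
  obtain ⟨gr, hgr, hpow⟩ := pow_diag_field g σ r
  rw [hpow] at h
  obtain ⟨c, hc⟩ := (eq_one_of_pslDiag_mul_pslField_eq_one hn _ _ h).2
  rw [hgr] at hc
  -- `cocyc σ g r = c • 1`
  have hc' : cocyc σ (g : Matrix (Fin n) (Fin n) F) r = c • (1 : Matrix (Fin n) (Fin n) F) := by
    rw [← hc, Matrix.smul_one_eq_diagonal]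
    rfl
  have hg0 : (g : Matrix (Fin n) (Fin n) F) ≠ 0 := gl_coe_ne_zero (by omega) g
  have hc0 : c ≠ 0 := by
    intro h0
    rw [h0, zero_smul] at hc'
    have : (gr : Matrix (Fin n) (Fin n) F) ≠ 0 := gl_coe_ne_zero (by omega) gr
    exact this (hgr.trans hc')
  -- `c` is fixed by `σ`
  have hfix : σ c = c := by
    have e1 := cocyc_succ σ (g : Matrix (Fin n) (Fin n) F) r
    have e2 := cocyc_succ' σ (g : Matrix (Fin n) (Fin n) F) r
    rw [hc'] at e1 e2
    rw [e1, hσr] at e2
    have e3 : (g : Matrix (Fin n) (Fin n) F) * (c • (1 : Matrix (Fin n) (Fin n) F)).map σ =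
        σ c • (g : Matrix (Fin n) (Fin n) F) := by
      have : (c • (1 : Matrix (Fin n) (Fin n) F)).map σ = σ c • (1 : Matrix (Fin n) (Fin n) F) := by
        ext k l
        by_cases hkl : k = l
        · simp [hkl]
        · simp [hkl]
      rw [this, Matrix.mul_smul, Matrix.mul_one]
    have e4 : c • (1 : Matrix (Fin n) (Fin n) F) *
        (g : Matrix (Fin n) (Fin n) F).map ((1 : RingAut F) : F → F) =
        c • (g : Matrix (Fin n) (Fin n) F) := by
      have : (g : Matrix (Fin n) (Fin n) F).map ((1 : RingAut F) : F → F) = g := by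
        ext k l
        rfl
      rw [this, Matrix.smul_mul, Matrix.one_mul]
    rw [e3, e4] at e2
    by_contra hne
    apply hg0
    have : (σ c - c) • (g : Matrix (Fin n) (Fin n) F) = 0 := by
      rw [sub_smul, e2, sub_self]
    rcases smul_eq_zero.mp this with h1 | h1
    · exact absurd (sub_eq_zero.mp h1) hne
    · exact h1
  -- rescale
  obtain ⟨a, ha0, ha⟩ := exists_nrm_eq σ hr hσ c⁻¹ (inv_ne_zero hc0) (by rw [map_inv₀, hfix])
  let g' : GL (Fin n) F := Matrix.GeneralLinearGroup.scalar (Fin n) (Units.mk0 a ha0) * g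
  have hg'coe : (g' : Matrix (Fin n) (Fin n) F) = a • (g : Matrix (Fin n) (Fin n) F) := by
    show (Matrix.GeneralLinearGroup.scalar (Fin n) (Units.mk0 a ha0) * g : GL (Fin n) F).val = _
    rw [Units.val_mul, Matrix.GeneralLinearGroup.coe_scalar, Units.val_mk0]
    ext k l
    simp [Matrix.mul_apply, Matrix.scalar_apply, Matrix.diagonal_apply]
  have hg' : (pslDiag g' : MulAut (Matrix.ProjectiveSpecialLinearGroup (Fin n) F)) = pslDiag g := by
    show pslDiag (Matrix.GeneralLinearGroup.scalar (Fin n) (Units.mk0 a ha0) * g) = _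
    rw [map_mul, pslDiag_scalar, one_mul]
  have hcoc : cocyc σ (g' : Matrix (Fin n) (Fin n) F) r = 1 := by
    rw [hg'coe, cocyc_smul, hc', ha, smul_smul, inv_mul_cancel₀ hc0, one_smul]
  obtain ⟨B, hB, hAB⟩ := hilbert90_matrix σ hr hσ _ hcoc
  refine ⟨hB.unit, ?_⟩
  rw [conj_pslField, ← hg']
  congr 2
  rw [eq_mul_inv_iff_mul_eq]
  apply Units.ext
  rw [Units.val_mul]
  exact hAB

end Cfsg.Agent.Lib.Helper45.PSLField
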