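/-
helper45: the fixed field of an automorphism `σ` of order `r` of a finite field of order `p ^ f` has
`p ^ (f / r)` elements, and `r ∣ f` (Artin's theorem).
-/
import Mathlib

set_option autoImplicit false

namespace Cfsg.Agent.Lib.Helper45.PSLField

variable {F : Type*} [Field F]

/-- the fixed field of `σ` -/
noncomputable def fixF (σ : RingAut F) : Subfield F :=
  FixedPoints.subfield (Subgroup.zpowers σ) F

theorem mem_fixF (σ : RingAut F) (x : F) : x ∈ fixF σ ↔ σ x = x := by
  constructor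
  · intro h
    exact h ⟨σ, Subgroup.mem_zpowers σ⟩
  · intro h
    rintro ⟨τ, hτ⟩
    have hle : Subgroup.zpowers σ ≤ MulAction.stabilizer (RingAut F) x := by
      rw [Subgroup.zpowers_le]; exact h
    exact hle hτ

theorem finite_ringAut [Finite F] : Finite (RingAut F) :=
  Finite.of_injective (fun e : F ≃+* F => (e : F → F)) DFunLike.coe_injective

theorem finrank_fixF [Finite F] (σ : RingAut F) : Module.finrank (fixF σ) F = orderOf σ := by
  classical
  have : Finite (RingAut F) := finite_ringAut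
  have : Fintype (Subgroup.zpowers σ) := Fintype.ofFinite _
  have h := FixedPoints.finrank_eq_card (Subgroup.zpowers σ) F
  rw [Fintype.card_eq_nat_card, Nat.card_zpowers] at h
  exact h

theorem card_fixF [Fintype F] {p f : ℕ} [Fact p.Prime] (hF : Fintype.card F = p ^ f)
    (σ : RingAut F) {r : ℕ} (hr : 0 < r) (hσ : orderOf σ = r) :
    r ∣ f ∧ Nat.card (fixF σ) = p ^ (f / r) := by
  have h1 : Nat.card F = Nat.card (fixF σ) ^ r := by
    rw [← hσ, ← finrank_fixF σ]
    exact Module.natCard_eq_pow_finrank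
  rw [Nat.card_eq_fintype_card, hF] at h1
  have h2 : Nat.card (fixF σ) ∣ p ^ f := by
    rw [h1]; exact dvd_pow_self _ hr.ne'
  obtain ⟨k, hk, hk2⟩ := (Nat.dvd_prime_pow (Fact.out : p.Prime)).mp h2
  rw [hk2, ← pow_mul] at h1
  have h3 : f = k * r := Nat.pow_right_injective (Fact.out : p.Prime).two_le h1
  refine ⟨⟨k, by rw [h3, mul_comm]⟩, ?_⟩
  rw [hk2, h3, Nat.mul_div_cancel _ hr]

/-- an abstract field with `p ^ (f / r)` elements embeds onto the fixed field of `σ` -/
theorem exists_embedding_fixF [Fintype F] {p f : ℕ} [Fact p.Prime] (hF : Fintype.card F = p ^ f)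
    (σ : RingAut F) {r : ℕ} (hr : 0 < r) (hσ : orderOf σ = r)
    (F₀ : Type*) [Field F₀] [Fintype F₀] (hF₀ : Fintype.card F₀ = p ^ (f / r)) :
    ∃ j : F₀ →+* F, ∀ a : F, σ a = a ↔ ∃ b, j b = a := by
  classical
  have : Fintype (fixF σ) := Fintype.ofFinite _
  have hc : Fintype.card F₀ = Fintype.card (fixF σ) := by
    rw [hF₀, Fintype.card_eq_nat_card, (card_fixF hF σ hr hσ).2]
  let e : F₀ ≃+* fixF σ := FiniteField.ringEquivOfCardEq hc
  refine ⟨(fixF σ).subtype.comp (e : F₀ →+* fixF σ), ?_⟩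
  intro a
  rw [← mem_fixF]
  constructor
  · intro ha
    refine ⟨e.symm ⟨a, ha⟩, ?_⟩
    simp
  · rintro ⟨b, rfl⟩
    simp
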