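/-
helper45: the centraliser of a standard field automorphism `φ_σ` in `Inndiag(PSL_n(F))` is the image
of `GL_n(F₀)`, `F₀` the fixed field of `σ`, and is isomorphic to `PGL_n(F₀)`.
-/
import Cfsg.Agent.Lib.Helper45.PSLField.Coset
import Cfsg.Agent.Lib.Helper45.PSLField.Fixed

set_option autoImplicit false

namespace Cfsg.Agent.Lib.Helper45.PSLField

open Matrix Cfsg.Agent.Lib.Helper43

variable {n : ℕ} {F : Type*} [Field F] {F₀ : Type*} [Field F₀]

/-- inner-diagonal automorphisms coming from a subfield -/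
noncomputable def subDiag (j : F₀ →+* F) :
    GL (Fin n) F₀ →* MulAut (Matrix.ProjectiveSpecialLinearGroup (Fin n) F) :=
  pslDiag.comp (Matrix.GeneralLinearGroup.map j)

theorem subDiag_apply (j : F₀ →+* F) (A : GL (Fin n) F₀) :
    subDiag j A = pslDiag (Matrix.GeneralLinearGroup.map j A) := rfl

theorem glMap_injective (j : F₀ →+* F) :
    Function.Injective (Matrix.GeneralLinearGroup.map j : GL (Fin n) F₀ →* GL (Fin n) F) := by
  intro A B hAB
  apply Units.ext
  ext k l
  apply j.injective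
  have := congrArg (fun g : GL (Fin n) F => (g : Matrix (Fin n) (Fin n) F) k l) hAB
  simpa using this

theorem glMap_glMap_eq (σ : RingAut F) (j : F₀ →+* F) (hj : ∀ a, σ (j a) = j a)
    (A : GL (Fin n) F₀) :
    Matrix.GeneralLinearGroup.map ((σ : F ≃+* F) : F →+* F) (Matrix.GeneralLinearGroup.map j A) =
      Matrix.GeneralLinearGroup.map j A := by
  apply Units.ext
  ext k l
  simp [hj]

theorem subDiag_comm (σ : RingAut F) (j : F₀ →+* F) (hj : ∀ a, σ (j a) = j a)
    (A : GL (Fin n) F₀) :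
    (pslField σ : MulAut (Matrix.ProjectiveSpecialLinearGroup (Fin n) F)) * subDiag j A =
      subDiag j A * pslField σ := by
  rw [subDiag_apply, pslField_mul_pslDiag, glMap_glMap_eq σ j hj]

theorem glMap_scalar (j : F₀ →+* F) (c : F₀ˣ) :
    Matrix.GeneralLinearGroup.map j (Matrix.GeneralLinearGroup.scalar (Fin n) c) =
      Matrix.GeneralLinearGroup.scalar (Fin n) (Units.map (j : F₀ →* F) c) := by
  apply Units.ext
  ext k l
  by_cases hkl : k = l
  · subst hkl
    simp [Matrix.GeneralLinearGroup.coe_scalar, Matrix.scalar_apply]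
  · simp [Matrix.GeneralLinearGroup.coe_scalar, Matrix.scalar_apply,
      Matrix.diagonal_apply_ne _ hkl]

theorem ker_subDiag (hn : 2 ≤ n) (j : F₀ →+* F) :
    (subDiag j : GL (Fin n) F₀ →* MulAut (Matrix.ProjectiveSpecialLinearGroup (Fin n) F)).ker =
      Subgroup.center (GL (Fin n) F₀) := by
  ext A
  rw [MonoidHom.mem_ker, subDiag_apply, ← MonoidHom.mem_ker, ker_pslDiag hn]
  constructor
  · intro h
    rw [Subgroup.mem_center_iff] at h ⊢
    intro B
    apply glMap_injective j
    rw [map_mul, map_mul]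
    exact h _
  · intro h
    rw [Matrix.GeneralLinearGroup.center_eq_range_scalar] at h ⊢
    obtain ⟨c, rfl⟩ := h
    exact ⟨Units.map (j : F₀ →* F) c, (glMap_scalar j c).symm⟩

section Semifixed

variable {ι : Type*} [Fintype ι] [DecidableEq ι]

omit [Fintype ι] [DecidableEq ι] in
theorem map_pow_of_semifixed (σ : RingAut F) (G : Matrix ι ι F) (c : F)
    (h : G.map σ = c • G) (i : ℕ) : G.map (σ ^ i) = nrm σ c i • G := by
  induction i with
  | zero =>
    rw [nrm_zero, one_smul, pow_zero]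
    ext k l
    rfl
  | succ i ih =>
    have h1 : G.map (σ ^ (i + 1)) = (G.map (σ ^ i)).map σ := by
      ext k l
      rw [Matrix.map_apply, Matrix.map_apply, Matrix.map_apply, pow_succ', RingAut.mul_apply]
    rw [h1, ih, nrm_succ]
    ext k l
    have h2 := congrFun (congrFun h k) l
    simp only [Matrix.map_apply, Matrix.smul_apply, smul_eq_mul, map_mul] at h2 ⊢
    rw [h2]
    ring

omit [Fintype ι] [DecidableEq ι] in
theorem exists_fixed_multiple (σ : RingAut F) {r : ℕ} (hr : 0 < r) (hσ : orderOf σ = r)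
    (G : Matrix ι ι F) (hG : G ≠ 0) (c : F) (h : G.map σ = c • G) :
    ∃ b : F, b ≠ 0 ∧ (b • G).map σ = b • G := by
  have hσr : σ ^ r = 1 := by rw [← hσ]; exact pow_orderOf_eq_one σ
  have h1 := map_pow_of_semifixed σ G c h r
  rw [hσr] at h1
  have h2 : nrm σ c r = 1 := by
    obtain ⟨k, l, hkl⟩ : ∃ k l, G k l ≠ 0 := by
      by_contra hh
      push Not at hh
      apply hG
      ext k l
      exact hh k l
    have h3 := congrFun (congrFun h1 k) l
    rw [Matrix.map_apply, Matrix.smul_apply, smul_eq_mul, RingAut.one_apply] at h3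
    have h4 : (nrm σ c r - 1) * G k l = 0 := by rw [sub_mul, one_mul, ← h3, sub_self]
    rcases mul_eq_zero.mp h4 with h5 | h5
    · exact sub_eq_zero.mp h5
    · exact absurd h5 hkl
  obtain ⟨b, hb0, hb⟩ := hilbert90_scalar σ hr hσ c h2
  refine ⟨b, hb0, ?_⟩
  ext k l
  have h2 := congrFun (congrFun h k) l
  simp only [Matrix.map_apply, Matrix.smul_apply, smul_eq_mul, map_mul] at h2 ⊢
  rw [h2, ← mul_assoc, mul_comm (σ b), hb]

end Semifixed

/-- the centraliser of `φ_σ` in `Inndiag` is the image of `GL_n` of the fixed field -/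
theorem mem_inndiag_centralizer_iff [Finite F] (hn : 2 ≤ n) (σ : RingAut F) {r : ℕ} (hr : 0 < r)
    (hσ : orderOf σ = r) (j : F₀ →+* F) (hj : ∀ a : F, σ a = a ↔ ∃ b, j b = a)
    (β : MulAut (Matrix.ProjectiveSpecialLinearGroup (Fin n) F)) :
    β ∈ Cfsg.inndiagPSL n F ⊓ Subgroup.centralizer {pslField σ} ↔
      ∃ A : GL (Fin n) F₀, subDiag j A = β := by
  have hj' : ∀ a, σ (j a) = j a := fun a => (hj (j a)).mpr ⟨a, rfl⟩
  rw [Subgroup.mem_inf]
  constructor
  · rintro ⟨hβ1, hβ2⟩
    obtain ⟨g, rfl⟩ := (mem_inndiagPSL_iff β).mp hβ1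
    have hc : (pslField σ : MulAut (Matrix.ProjectiveSpecialLinearGroup (Fin n) F)) * pslDiag g =
        pslDiag g * pslField σ := (Subgroup.mem_centralizer_iff.mp hβ2) _ rfl
    rw [pslField_mul_pslDiag] at hc
    have hc2 := mul_right_cancel hc
    have hcen : g⁻¹ * Matrix.GeneralLinearGroup.map ((σ : F ≃+* F) : F →+* F) g ∈
        Subgroup.center (GL (Fin n) F) := by
      rw [← ker_pslDiag hn, MonoidHom.mem_ker, map_mul, map_inv, hc2, inv_mul_cancel]
    rw [Matrix.GeneralLinearGroup.center_eq_range_scalar] at hcen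
    obtain ⟨c, hc3⟩ := hcen
    have hc4 : Matrix.GeneralLinearGroup.map ((σ : F ≃+* F) : F →+* F) g =
        g * Matrix.GeneralLinearGroup.scalar (Fin n) c := by
      rw [hc3, mul_inv_cancel_left]
    have hsemi : (g : Matrix (Fin n) (Fin n) F).map σ = (c : F) • (g : Matrix (Fin n) (Fin n) F) := by
      have := congrArg (fun k : GL (Fin n) F => (k : Matrix (Fin n) (Fin n) F)) hc4
      simp only [Units.val_mul, Matrix.GeneralLinearGroup.coe_scalar] at this
      rw [← (Matrix.scalar_commute (c : F) (fun r' => Commute.all _ r') _).eq] at this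
      rw [Matrix.scalar_apply, ← Matrix.smul_eq_diagonal_mul] at this
      exact this
    obtain ⟨b, hb0, hb⟩ := exists_fixed_multiple σ hr hσ _ (gl_coe_ne_zero (by omega) g) _ hsemi
    have hent : ∀ k l, ∃ a : F₀, j a = b * (g : Matrix (Fin n) (Fin n) F) k l := by
      intro k l
      apply (hj _).mp
      have := congrFun (congrFun hb k) l
      simpa using this
    choose a ha using hent
    have hmap : (Matrix.of a).map j = b • (g : Matrix (Fin n) (Fin n) F) := by
      ext k l
      rw [Matrix.map_apply, Matrix.of_apply, ha, Matrix.smul_apply, smul_eq_mul]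
    have hdet : (Matrix.of a).det ≠ 0 := by
      intro h0
      have h1 : j (Matrix.of a).det = (b • (g : Matrix (Fin n) (Fin n) F)).det := by
        rw [← hmap, RingHom.map_det]
        rfl
      rw [h0, map_zero, Matrix.det_smul] at h1
      have h2 : (g : Matrix (Fin n) (Fin n) F).det ≠ 0 := by
        have := (Matrix.isUnit_iff_isUnit_det _).mp ⟨g, rfl⟩
        exact this.ne_zero
      exact (mul_ne_zero (pow_ne_zero _ hb0) h2) h1.symm
    refine ⟨Matrix.GeneralLinearGroup.mkOfDetNeZero (Matrix.of a) hdet, ?_⟩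
    have h3 : Matrix.GeneralLinearGroup.map j
        (Matrix.GeneralLinearGroup.mkOfDetNeZero (Matrix.of a) hdet) =
        Matrix.GeneralLinearGroup.scalar (Fin n) (Units.mk0 b hb0) * g := by
      apply Units.ext
      show (Matrix.of a).map j = _
      rw [hmap, Units.val_mul, Matrix.GeneralLinearGroup.coe_scalar, Units.val_mk0,
        Matrix.scalar_apply, ← Matrix.smul_eq_diagonal_mul]
    rw [subDiag_apply, h3, map_mul, pslDiag_scalar, one_mul]
  · rintro ⟨A, rfl⟩
    refine ⟨(mem_inndiagPSL_iff _).mpr ⟨_, rfl⟩, ?_⟩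
    rw [Subgroup.mem_centralizer_iff]
    intro h hh
    rw [Set.mem_singleton_iff] at hh
    subst hh
    exact subDiag_comm σ j hj' A

/-- `C_{Inndiag}(φ_σ) ≅ PGL_n(F₀)` -/
theorem nonempty_centralizer_equiv [Finite F] (hn : 2 ≤ n) (σ : RingAut F) {r : ℕ} (hr : 0 < r)
    (hσ : orderOf σ = r) (j : F₀ →+* F) (hj : ∀ a : F, σ a = a ↔ ∃ b, j b = a) :
    Nonempty (↥(Cfsg.inndiagPSL n F ⊓ Subgroup.centralizer {pslField σ}) ≃*
      Matrix.ProjGenLinGroup (Fin n) F₀) := by
  have h1 : Cfsg.inndiagPSL n F ⊓ Subgroup.centralizer {pslField σ} =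
      (subDiag j : GL (Fin n) F₀ →* MulAut (Matrix.ProjectiveSpecialLinearGroup (Fin n) F)).range := by
    ext β
    rw [mem_inndiag_centralizer_iff hn σ hr hσ j hj]
    rfl
  exact ⟨(MulEquiv.subgroupCongr h1).trans
    ((QuotientGroup.quotientKerEquivRange (subDiag j)).symm.trans
      (QuotientGroup.quotientMulEquivOfEq (ker_subDiag hn j)))⟩

/-- transfer of the centraliser in `Inndiag` along conjugation -/
theorem nonempty_centralizer_conj_equiv (hstd : AllStdAut n F)
    (α x : MulAut (Matrix.ProjectiveSpecialLinearGroup (Fin n) F)) :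
    Nonempty (↥(Cfsg.inndiagPSL n F ⊓ Subgroup.centralizer {x}) ≃*
      ↥(Cfsg.inndiagPSL n F ⊓ Subgroup.centralizer {α * x * α⁻¹})) := by
  have h1 : (Cfsg.inndiagPSL n F ⊓ Subgroup.centralizer {x}).map
      ((MulAut.conj α : MulAut (Matrix.ProjectiveSpecialLinearGroup (Fin n) F) ≃* _) :
        MulAut (Matrix.ProjectiveSpecialLinearGroup (Fin n) F) →* _) =
      Cfsg.inndiagPSL n F ⊓ Subgroup.centralizer {α * x * α⁻¹} := by
    ext β
    rw [Subgroup.mem_map, Subgroup.mem_inf]
    constructor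
    · rintro ⟨γ, hγ, rfl⟩
      rw [Subgroup.mem_inf] at hγ
      obtain ⟨hγ1, hγ2⟩ := hγ
      refine ⟨conj_mem_inndiag hstd α hγ1, ?_⟩
      rw [Subgroup.mem_centralizer_iff] at hγ2 ⊢
      intro h hh
      rw [Set.mem_singleton_iff] at hh
      subst hh
      have := hγ2 x rfl
      show α * x * α⁻¹ * (α * γ * α⁻¹) = α * γ * α⁻¹ * (α * x * α⁻¹)
      calc α * x * α⁻¹ * (α * γ * α⁻¹) = α * (x * γ) * α⁻¹ := by group
        _ = α * (γ * x) * α⁻¹ := by rw [this]
        _ = _ := by group
    · rintro ⟨hβ1, hβ2⟩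
      refine ⟨α⁻¹ * β * α, Subgroup.mem_inf.mpr ⟨?_, ?_⟩, ?_⟩
      · have := conj_mem_inndiag hstd α⁻¹ hβ1
        rwa [inv_inv] at this
      · rw [Subgroup.mem_centralizer_iff] at hβ2 ⊢
        intro h hh
        rw [Set.mem_singleton_iff] at hh
        subst hh
        have := hβ2 _ rfl
        calc h * (α⁻¹ * β * α) = α⁻¹ * (α * h * α⁻¹ * β) * α := by group
          _ = α⁻¹ * (β * (α * h * α⁻¹)) * α := by rw [this]
          _ = _ := by group
      · show α * (α⁻¹ * β * α) * α⁻¹ = β
        group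
  exact ⟨((MulAut.conj α : MulAut (Matrix.ProjectiveSpecialLinearGroup (Fin n) F) ≃* _).subgroupMap
    _).trans (MulEquiv.subgroupCongr h1)⟩

end Cfsg.Agent.Lib.Helper45.PSLField
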