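/-
helper45: abstract lemmas about `Cfsg.splitClassCount`.
-/
import Mathlib
import Cfsg.Prelude.Def_LieTypeDatum

set_option autoImplicit false

namespace Cfsg.Agent.Lib.Helper45.PSLField

/-- two surjections with the same fibres have equinumerous targets -/
theorem card_eq_of_surjective_of_iff {A B C : Type*} (f : A → B) (f' : A → C)
    (hf : Function.Surjective f) (hf' : Function.Surjective f')
    (h : ∀ a a', f a = f a' ↔ f' a = f' a') : Nat.card B = Nat.card C := by
  apply Nat.card_congr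
  refine Equiv.ofBijective (fun b => f' (hf b).choose) ⟨?_, ?_⟩
  · intro b b' hbb
    have h1 := (h _ _).mpr hbb
    rw [(hf b).choose_spec, (hf b').choose_spec] at h1
    exact h1
  · intro c
    obtain ⟨a, rfl⟩ := hf' c
    exact ⟨f a, (h _ _).mp (hf (f a)).choose_spec⟩

variable {X : Type*} [Group X]

theorem isConjUnder_equivalence (H K : Subgroup X) (x : X) :
    Equivalence (fun y z : {y : X // Cfsg.IsConjUnder H x y} => Cfsg.IsConjUnder K y.1 z.1) := by
  refine ⟨?_, ?_, ?_⟩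
  · intro y
    exact ⟨1, K.one_mem, by rw [one_mul, inv_one, mul_one]⟩
  · rintro y z ⟨k, hk, hz⟩
    refine ⟨k⁻¹, K.inv_mem hk, ?_⟩
    rw [hz]; group
  · rintro y z w ⟨k, hk, hz⟩ ⟨k', hk', hw⟩
    refine ⟨k' * k, K.mul_mem hk' hk, ?_⟩
    rw [hw, hz]; group

theorem quot_mk_eq_iff (H K : Subgroup X) (x : X) (y z : {y : X // Cfsg.IsConjUnder H x y}) :
    Quot.mk (fun y z : {y : X // Cfsg.IsConjUnder H x y} => Cfsg.IsConjUnder K y.1 z.1) y =
      Quot.mk _ z ↔ Cfsg.IsConjUnder K y.1 z.1 := by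
  rw [Quot.eq, (isConjUnder_equivalence H K x).eqvGen_iff]

/-- the split class count is invariant under conjugation by an element normalising both groups -/
theorem splitClassCount_conj (H K : Subgroup X) (α x : X)
    (hH : ∀ h, h ∈ H ↔ α * h * α⁻¹ ∈ H) (hK : ∀ k, k ∈ K ↔ α * k * α⁻¹ ∈ K) :
    Cfsg.splitClassCount H K x = Cfsg.splitClassCount H K (α * x * α⁻¹) := by
  unfold Cfsg.splitClassCount
  apply Nat.card_congr
  have hH' : ∀ h, h ∈ H → α⁻¹ * h * α ∈ H := by
    intro h hh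
    rw [hH]
    have : α * (α⁻¹ * h * α) * α⁻¹ = h := by group
    rwa [this]
  have hK' : ∀ h, h ∈ K → α⁻¹ * h * α ∈ K := by
    intro h hh
    rw [hK]
    have : α * (α⁻¹ * h * α) * α⁻¹ = h := by group
    rwa [this]
  let e : {y : X // Cfsg.IsConjUnder H x y} ≃ {y : X // Cfsg.IsConjUnder H (α * x * α⁻¹) y} :=
    { toFun := fun y => ⟨α * y.1 * α⁻¹, by
        obtain ⟨h, hh, hy⟩ := y.2
        refine ⟨α * h * α⁻¹, (hH h).mp hh, ?_⟩
        rw [hy]; group⟩
      invFun := fun y => ⟨α⁻¹ * y.1 * α, by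
        obtain ⟨h, hh, hy⟩ := y.2
        refine ⟨α⁻¹ * h * α, hH' h hh, ?_⟩
        rw [hy]; group⟩
      left_inv := by
        intro y
        apply Subtype.ext
        show α⁻¹ * (α * y.1 * α⁻¹) * α = y.1
        group
      right_inv := by
        intro y
        apply Subtype.ext
        show α * (α⁻¹ * y.1 * α) * α⁻¹ = y.1
        group }
  refine Quot.congr e ?_
  intro y z
  constructor
  · rintro ⟨k, hk, hz⟩
    refine ⟨α * k * α⁻¹, (hK k).mp hk, ?_⟩
    show α * z.1 * α⁻¹ = α * k * α⁻¹ * (α * y.1 * α⁻¹) * (α * k * α⁻¹)⁻¹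
    rw [hz]; group
  · rintro ⟨k, hk, hz⟩
    refine ⟨α⁻¹ * k * α, hK' k hk, ?_⟩
    have hz' : α * z.1 * α⁻¹ = k * (α * y.1 * α⁻¹) * k⁻¹ := hz
    have : z.1 = α⁻¹ * (α * z.1 * α⁻¹) * α := by group
    rw [this, hz']; group

end Cfsg.Agent.Lib.Helper45.PSLField
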