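/-
helper45: in a finite cyclic group `C`, the index of `T · Cⁿ` is `gcd(n, |C| / |T|)`.
-/
import Mathlib

set_option autoImplicit false

namespace Cfsg.Agent.Lib.Helper45.PSLField

variable {C : Type*} [CommGroup C] [IsCyclic C] [Finite C]

theorem eq_range_pow (T : Subgroup C) :
    T = (powMonoidHom (Nat.card C / Nat.card T) : C →* C).range := by
  have hdvd : Nat.card T ∣ Nat.card C := Subgroup.card_subgroup_dvd_card T
  have hT0 : 0 < Nat.card T := Nat.card_pos
  have hC0 : 0 < Nat.card C := Nat.card_pos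
  obtain ⟨M, hM⟩ := hdvd
  have hM0 : 0 < M := by
    rcases Nat.eq_zero_or_pos M with h | h
    · rw [h, mul_zero] at hM; omega
    · exact h
  have hdiv : Nat.card C / Nat.card T = M := by rw [hM, Nat.mul_div_cancel_left _ hT0]
  rw [hdiv]
  have hker : Nat.card (powMonoidHom (Nat.card T) : C →* C).ker = Nat.card T := by
    rw [IsCyclic.card_powMonoidHom_ker, hM, Nat.gcd_mul_right_left]
  have h1 : T = (powMonoidHom (Nat.card T) : C →* C).ker := by
    apply Subgroup.eq_of_le_of_card_ge
    · intro u hu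
      rw [MonoidHom.mem_ker, powMonoidHom_apply]
      have := pow_card_eq_one' (G := T) (x := ⟨u, hu⟩)
      exact congrArg Subtype.val this
    · rw [hker]
  have h2 : (powMonoidHom M : C →* C).range = (powMonoidHom (Nat.card T) : C →* C).ker := by
    apply Subgroup.eq_of_le_of_card_ge
    · rintro _ ⟨v, rfl⟩
      rw [MonoidHom.mem_ker, powMonoidHom_apply, powMonoidHom_apply, ← pow_mul, mul_comm, ← hM]
      exact pow_card_eq_one'
    · rw [hker, IsCyclic.card_powMonoidHom_range, hM, Nat.gcd_mul_left_left,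
        Nat.mul_div_cancel _ hM0]
  rw [h2]
  exact h1

omit [IsCyclic C] [Finite C] in
theorem range_pow_sup_range_pow (a b : ℕ) :
    (powMonoidHom a : C →* C).range ⊔ (powMonoidHom b : C →* C).range =
      (powMonoidHom (Nat.gcd a b) : C →* C).range := by
  apply le_antisymm
  · apply sup_le
    · rintro _ ⟨v, rfl⟩
      obtain ⟨k, hk⟩ := Nat.gcd_dvd_left a b
      refine ⟨v ^ k, ?_⟩
      rw [powMonoidHom_apply, powMonoidHom_apply, ← pow_mul, mul_comm, ← hk]
    · rintro _ ⟨v, rfl⟩
      obtain ⟨k, hk⟩ := Nat.gcd_dvd_right a b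
      refine ⟨v ^ k, ?_⟩
      rw [powMonoidHom_apply, powMonoidHom_apply, ← pow_mul, mul_comm, ← hk]
  · rintro _ ⟨v, rfl⟩
    rw [powMonoidHom_apply]
    have hb := Nat.gcd_eq_gcd_ab a b
    have h1 : v ^ (Nat.gcd a b) = (v ^ (Nat.gcdA a b)) ^ a * (v ^ (Nat.gcdB a b)) ^ b := by
      rw [← zpow_natCast v (Nat.gcd a b), hb, zpow_add, mul_comm (a : ℤ), mul_comm (b : ℤ),
        zpow_mul, zpow_mul, zpow_natCast, zpow_natCast]
    rw [h1]
    apply Subgroup.mul_mem
    · exact Subgroup.mem_sup_left ⟨_, rfl⟩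
    · exact Subgroup.mem_sup_right ⟨_, rfl⟩

/-- the index of `T · Cⁿ` in a finite cyclic group `C` -/
theorem index_sup_range_pow (T : Subgroup C) (n : ℕ) :
    (T ⊔ (powMonoidHom n : C →* C).range).index = Nat.gcd n (Nat.card C / Nat.card T) := by
  have hdvd : Nat.card T ∣ Nat.card C := Subgroup.card_subgroup_dvd_card T
  have hT0 : 0 < Nat.card T := Nat.card_pos
  have h1 : T ⊔ (powMonoidHom n : C →* C).range =
      (powMonoidHom (Nat.gcd (Nat.card C / Nat.card T) n) : C →* C).range := by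
    conv_lhs => rw [eq_range_pow T]
    exact range_pow_sup_range_pow _ _
  rw [h1, IsCyclic.index_powMonoidHom_range, Nat.gcd_comm n]
  apply Nat.gcd_eq_right
  exact (Nat.gcd_dvd_left _ _).trans (Nat.div_dvd_of_dvd hdvd)

end Cfsg.Agent.Lib.Helper45.PSLField
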