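/-
helper45: the `Inndiag`-class of a standard field automorphism `φ_σ` of `PSL_n(F)` splits into
`|F^× : F₀^× (F^×)ⁿ|` classes under the inner automorphisms, `F₀` the fixed field of `σ`.
-/
import Cfsg.Agent.Lib.Helper45.PSLField.Centralizer
import Cfsg.Agent.Lib.Helper45.PSLField.SplitAbs
import Cfsg.Agent.Lib.Helper45.PSLField.Cyclic

set_option autoImplicit false

namespace Cfsg.Agent.Lib.Helper45.PSLField

open Matrix Cfsg.Agent.Lib.Helper43

theorem conj_eq_of_comm {X : Type*} [Group X] (φ t k a b : X) (ht : φ * t = t * φ)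
    (h : k * a = b * t) : b * φ * b⁻¹ = k * (a * φ * a⁻¹) * k⁻¹ := by
  have hk : k = b * t * a⁻¹ := by rw [← h]; group
  subst hk
  calc b * φ * b⁻¹ = b * (φ * t) * t⁻¹ * b⁻¹ := by group
    _ = b * (t * φ) * t⁻¹ * b⁻¹ := by rw [ht]
    _ = _ := by group

theorem comm_of_conj_eq {X : Type*} [Group X] (φ k a b : X)
    (h : b * φ * b⁻¹ = k * (a * φ * a⁻¹) * k⁻¹) :
    φ * (b⁻¹ * k * a) = (b⁻¹ * k * a) * φ := by
  calc φ * (b⁻¹ * k * a) = b⁻¹ * (b * φ * b⁻¹) * (k * a) := by group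
    _ = b⁻¹ * (k * (a * φ * a⁻¹) * k⁻¹) * (k * a) := by rw [h]
    _ = _ := by group

theorem commGroup_aux1 {G : Type*} [CommGroup G] (x a d₁ d₂ : G)
    (h : x = a⁻¹ * (d₂⁻¹ * d₁)) : d₁⁻¹ * d₂ = a⁻¹ * x⁻¹ := by
  subst h
  rw [_root_.mul_inv_rev, _root_.mul_inv_rev, inv_inv, inv_inv, mul_comm (d₁⁻¹ * d₂) a,
    inv_mul_cancel_left]

theorem commGroup_aux2 {G : Type*} [CommGroup G] (d₁ d₂ y z : G) (h : y * z = d₁⁻¹ * d₂) :
    z = d₂ * y⁻¹ * d₁⁻¹ := by
  have h1 : d₂ = d₁ * (y * z) := by rw [h, mul_inv_cancel_left]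
  rw [eq_mul_inv_iff_mul_eq, eq_mul_inv_iff_mul_eq, h1, mul_comm z d₁, mul_assoc, mul_comm z y]

variable {n : ℕ} {F : Type*} [Field F] {F₀ : Type*} [Field F₀]

theorem det_toGL (s : Matrix.SpecialLinearGroup (Fin n) F) :
    Matrix.GeneralLinearGroup.det (Matrix.SpecialLinearGroup.toGL s) = 1 := by
  apply Units.ext
  exact s.2

theorem det_glMap (j : F₀ →+* F) (A : GL (Fin n) F₀) :
    Matrix.GeneralLinearGroup.det (Matrix.GeneralLinearGroup.map j A) =
      Units.map (j : F₀ →* F) (Matrix.GeneralLinearGroup.det A) := by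
  apply Units.ext
  show ((A : Matrix (Fin n) (Fin n) F₀).map j).det = j (A : Matrix (Fin n) (Fin n) F₀).det
  rw [RingHom.map_det]
  rfl

theorem det_glScalar (c : Fˣ) :
    Matrix.GeneralLinearGroup.det (Matrix.GeneralLinearGroup.scalar (Fin n) c) = c ^ n := by
  apply Units.ext
  show (Matrix.scalar (Fin n) (c : F)).det = ((c ^ n : Fˣ) : F)
  rw [Matrix.scalar_apply, Matrix.det_diagonal, Finset.prod_const, Finset.card_univ,
    Fintype.card_fin, Units.val_pow_eq_pow_val]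

theorem pslDiag_mem_inn_iff (hn : 2 ≤ n) (g : GL (Fin n) F) :
    (pslDiag g : MulAut (Matrix.ProjectiveSpecialLinearGroup (Fin n) F)) ∈
      Cfsg.Inn (Matrix.ProjectiveSpecialLinearGroup (Fin n) F) ↔
      Matrix.GeneralLinearGroup.det g ∈ (powMonoidHom n : Fˣ →* Fˣ).range := by
  have h := ker_outDiagGL (F := F) hn
  have h1 : g ∈ (outDiagGL : GL (Fin n) F →* _).ker ↔ g ∈ (detModPow n F).ker := by rw [h]
  rw [MonoidHom.mem_ker, MonoidHom.mem_ker] at h1
  unfold outDiagGL detModPow at h1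
  rw [MonoidHom.comp_apply, MonoidHom.comp_apply, QuotientGroup.mk'_apply, QuotientGroup.mk'_apply,
    QuotientGroup.eq_one_iff, QuotientGroup.eq_one_iff] at h1
  exact h1

/-- the number of `Inn`-classes in the `Inndiag`-class of `φ_σ` -/
theorem splitClassCount_pslField [Finite F] (hn : 2 ≤ n) (σ : RingAut F) {r : ℕ} (hr : 0 < r)
    (hσ : orderOf σ = r) (j : F₀ →+* F) (hj : ∀ a : F, σ a = a ↔ ∃ b, j b = a) :
    Cfsg.splitClassCount (Cfsg.inndiagPSL n F)
      (Cfsg.Inn (Matrix.ProjectiveSpecialLinearGroup (Fin n) F)) (pslField σ) =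
      ((Units.map (j : F₀ →* F)).range ⊔ (powMonoidHom n : Fˣ →* Fˣ).range).index := by
  have hj' : ∀ a, σ (j a) = j a := fun a => (hj (j a)).mpr ⟨a, rfl⟩
  unfold Cfsg.splitClassCount Subgroup.index
  apply card_eq_of_surjective_of_iff
    (fun g : GL (Fin n) F => Quot.mk
      (fun y z : {y : MulAut (Matrix.ProjectiveSpecialLinearGroup (Fin n) F) //
        Cfsg.IsConjUnder (Cfsg.inndiagPSL n F) (pslField σ) y} =>
        Cfsg.IsConjUnder (Cfsg.Inn (Matrix.ProjectiveSpecialLinearGroup (Fin n) F)) y.1 z.1)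
      ⟨pslDiag g * pslField σ * (pslDiag g)⁻¹,
        ⟨pslDiag g, (mem_inndiagPSL_iff _).mpr ⟨g, rfl⟩, rfl⟩⟩)
    (fun g : GL (Fin n) F => (QuotientGroup.mk (Matrix.GeneralLinearGroup.det g) :
      Fˣ ⧸ ((Units.map (j : F₀ →* F)).range ⊔ (powMonoidHom n : Fˣ →* Fˣ).range)))
  · rintro ⟨⟨y, h, hh, rfl⟩⟩
    obtain ⟨g, rfl⟩ := (mem_inndiagPSL_iff h).mp hh
    exact ⟨g, rfl⟩
  · intro x
    obtain ⟨c, rfl⟩ := QuotientGroup.mk_surjective x
    obtain ⟨g, rfl⟩ := det_surjective (F := F) (by omega : 1 ≤ n) c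
    exact ⟨g, rfl⟩
  · intro g₁ g₂
    rw [quot_mk_eq_iff, QuotientGroup.eq]
    constructor
    · rintro ⟨k, hk, hz⟩
      obtain ⟨t, rfl⟩ := hk
      obtain ⟨s, rfl⟩ := QuotientGroup.mk_surjective t
      rw [← pslDiag_toGL] at hz
      have hcomm := comm_of_conj_eq _ _ _ _ hz
      rw [← map_inv, ← map_mul, ← map_mul] at hcomm
      have hmem : (pslDiag (g₂⁻¹ * Matrix.SpecialLinearGroup.toGL s * g₁) :
          MulAut (Matrix.ProjectiveSpecialLinearGroup (Fin n) F)) ∈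
          Cfsg.inndiagPSL n F ⊓ Subgroup.centralizer {pslField σ} := by
        refine Subgroup.mem_inf.mpr ⟨(mem_inndiagPSL_iff _).mpr ⟨_, rfl⟩, ?_⟩
        rw [Subgroup.mem_centralizer_iff]
        intro h hh
        rw [Set.mem_singleton_iff] at hh
        subst hh
        exact hcomm
      obtain ⟨A, hA⟩ := (mem_inndiag_centralizer_iff hn σ hr hσ j hj _).mp hmem
      rw [subDiag_apply] at hA
      have hcen : (Matrix.GeneralLinearGroup.map j A)⁻¹ *
          (g₂⁻¹ * Matrix.SpecialLinearGroup.toGL s * g₁) ∈ Subgroup.center (GL (Fin n) F) := by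
        rw [← ker_pslDiag hn, MonoidHom.mem_ker, map_mul, map_inv, hA, inv_mul_cancel]
      rw [Matrix.GeneralLinearGroup.center_eq_range_scalar] at hcen
      obtain ⟨c, hc⟩ := hcen
      have hdet := congrArg Matrix.GeneralLinearGroup.det hc
      rw [det_glScalar, map_mul, map_inv, map_mul, map_mul, map_inv, det_toGL, mul_one,
        det_glMap] at hdet
      have hfin : (Matrix.GeneralLinearGroup.det g₁)⁻¹ * Matrix.GeneralLinearGroup.det g₂ =
          (Units.map (j : F₀ →* F) (Matrix.GeneralLinearGroup.det A))⁻¹ * (c ^ n)⁻¹ :=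
        commGroup_aux1 _ _ _ _ hdet
      rw [hfin]
      apply Subgroup.mul_mem
      · exact Subgroup.mem_sup_left (Subgroup.inv_mem _ ⟨_, rfl⟩)
      · exact Subgroup.mem_sup_right (Subgroup.inv_mem _ ⟨c, rfl⟩)
    · intro hmem
      rw [Subgroup.mem_sup] at hmem
      obtain ⟨y, ⟨κ, rfl⟩, z, ⟨u, rfl⟩, hyz⟩ := hmem
      obtain ⟨A, hA⟩ := det_surjective (F := F₀) (by omega : 1 ≤ n) κ⁻¹
      have hinn : (pslDiag (g₂ * Matrix.GeneralLinearGroup.map j A * g₁⁻¹) :
          MulAut (Matrix.ProjectiveSpecialLinearGroup (Fin n) F)) ∈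
          Cfsg.Inn (Matrix.ProjectiveSpecialLinearGroup (Fin n) F) := by
        rw [pslDiag_mem_inn_iff hn]
        refine ⟨u, ?_⟩
        rw [map_mul, map_mul, map_inv, det_glMap, hA, map_inv]
        exact commGroup_aux2 _ _ _ _ hyz
      refine ⟨_, hinn, ?_⟩
      apply conj_eq_of_comm _ (subDiag j A) _ _ _ (subDiag_comm σ j hj' A)
      rw [subDiag_apply, ← map_mul, ← map_mul, inv_mul_cancel_right]

end Cfsg.Agent.Lib.Helper45.PSLField
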