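/-
helper45: the coset `Inndiag · φ_σ ι` of a standard graph-field automorphism of `PSL_n(F)`, `n ≥ 3`,
`F` finite: if `φ_σ ι` has prime order then that order is `2`, `σ` is an involution, and an involution
of the coset is conjugate to `φ_σ ι` under `Inndiag` (all non-degenerate Hermitian forms over a finite
field are equivalent; helper36's `HermOrtho`).
-/
import Cfsg.Agent.Lib.Helper45.PSLField.Coset
import Cfsg.Agent.Lib.Helper36.HermOrtho

set_option autoImplicit false

namespace Cfsg.Agent.Lib.Helper45.PSLField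

open Matrix Cfsg.Agent.Lib.Helper43

variable {n : ℕ} {F : Type*} [Field F]

/-- every non-degenerate Hermitian matrix over a finite field is congruent to the identity -/
theorem exists_orthonormal_matrix [Finite F] (σ : RingAut F) (hσ : σ ≠ 1)
    (hσ2 : ∀ a : F, σ (σ a) = a) (G : Matrix (Fin n) (Fin n) F) (hG : IsUnit G)
    (hH : ∀ k l, σ (G k l) = G l k) :
    ∃ P : Matrix (Fin n) (Fin n) F, (Pᵀ).map σ * G * P = 1 := by
  have hσ' : ((σ : F ≃+* F) : F →+* F) ≠ RingHom.id F := by
    intro h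
    apply hσ
    apply RingEquiv.ext
    intro a
    exact DFunLike.congr_fun h a
  let Bf : (Fin n → F) →ₛₗ[((σ : F ≃+* F) : F →+* F)] (Fin n → F) →ₗ[F] F :=
    Matrix.toLinearMapₛₗ₂' F ((σ : F ≃+* F) : F →+* F) (RingHom.id F) G
  have hBf : ∀ x y : Fin n → F, Bf x y = ∑ i, ∑ j, σ (x i) * (y j * G i j) := by
    intro x y
    show Matrix.toLinearMapₛₗ₂' F ((σ : F ≃+* F) : F →+* F) (RingHom.id F) G x y = _
    rw [Matrix.toLinearMapₛₗ₂'_apply]
    rfl
  have hS : Bf.IsSymm := by
    rw [LinearMap.isSymm_def]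
    intro x y
    rw [hBf, hBf, RingHom.coe_coe, map_sum, Finset.sum_comm]
    apply Finset.sum_congr rfl
    intro j _
    rw [map_sum]
    apply Finset.sum_congr rfl
    intro i _
    rw [map_mul, map_mul, hσ2, hH]
    ring
  have hright : Bf.SeparatingRight := by
    intro y hy
    have h1 : G *ᵥ y = 0 := by
      ext i
      have h2 : Bf (Pi.single i 1) y = (G *ᵥ y) i := by
        rw [hBf, Finset.sum_eq_single i]
        · rw [Pi.single_eq_same, map_one, Matrix.mulVec, dotProduct]
          apply Finset.sum_congr rfl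
          intro j _
          ring
        · intro k _ hk
          apply Finset.sum_eq_zero
          intro j _
          rw [Pi.single_eq_of_ne hk, map_zero, zero_mul]
        · intro h; exact absurd (Finset.mem_univ i) h
      rw [Pi.zero_apply, ← h2, hy]
    have hinj := Matrix.mulVec_injective_iff_isUnit.mpr hG
    apply hinj
    rw [h1, Matrix.mulVec_zero]
  have hB : Bf.Nondegenerate := by
    refine ⟨?_, hright⟩
    intro x hx
    apply hright
    intro y
    rw [← (LinearMap.isSymm_def.mp hS) x y, hx y, map_zero]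
  obtain ⟨e, he⟩ := Cfsg.Agent.Lib.Helper36.exists_orthonormal_family_aux
    ((σ : F ≃+* F) : F →+* F) hσ' hσ2 n (Fin n → F) Bf hS hB (Module.finrank_fin_fun F)
  refine ⟨Matrix.of (fun k l => e l k), ?_⟩
  ext k l
  rw [Matrix.mul_apply, Matrix.one_apply, ← he k l, hBf]
  simp only [Matrix.mul_apply, Matrix.map_apply, Matrix.transpose_apply, Matrix.of_apply,
    Finset.sum_mul]
  rw [Finset.sum_comm]
  apply Finset.sum_congr rfl
  intro i _
  apply Finset.sum_congr rfl
  intro j _
  ring

/-- the twisted inverse transpose `g ↦ σ(g⁻ᵀ)` on `GL_n(F)` -/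
def twInvT (σ : RingAut F) : GL (Fin n) F →* GL (Fin n) F :=
  (Matrix.GeneralLinearGroup.map ((σ : F ≃+* F) : F →+* F)).comp glInvT

theorem twInvT_inv_coe (σ : RingAut F) (g : GL (Fin n) F) :
    (((twInvT σ g)⁻¹ : GL (Fin n) F) : Matrix (Fin n) (Fin n) F) =
      ((g : Matrix (Fin n) (Fin n) F)ᵀ).map σ := by
  unfold twInvT
  rw [MonoidHom.comp_apply, ← map_inv]
  show ((glInvT g)⁻¹ : GL (Fin n) F).val.map σ = _
  rw [glInvT_inv_coe]

theorem twInvT_twInvT (σ : RingAut F) (hσ2 : ∀ a : F, σ (σ a) = a) (g : GL (Fin n) F) :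
    twInvT σ (twInvT σ g) = g := by
  rw [← _root_.inv_inj]
  apply Units.ext
  rw [twInvT_inv_coe]
  have h1 : (twInvT σ g : Matrix (Fin n) (Fin n) F) =
      (((g⁻¹ : GL (Fin n) F) : Matrix (Fin n) (Fin n) F)ᵀ).map σ := by
    have := twInvT_inv_coe σ g⁻¹
    rwa [map_inv, inv_inv] at this
  rw [h1]
  ext k l
  simp only [Matrix.map_apply, Matrix.transpose_apply, hσ2]

theorem twInvT_scalar (σ : RingAut F) (c : Fˣ) :
    twInvT σ (Matrix.GeneralLinearGroup.scalar (Fin n) c) =
      Matrix.GeneralLinearGroup.scalar (Fin n)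
        (Units.map (((σ : F ≃+* F) : F →+* F) : F →* F) c)⁻¹ := by
  rw [← _root_.inv_inj, map_inv, inv_inv]
  apply Units.ext
  rw [twInvT_inv_coe, Matrix.GeneralLinearGroup.coe_scalar, Matrix.GeneralLinearGroup.coe_scalar]
  ext k l
  by_cases hkl : k = l
  · subst hkl
    simp [Matrix.scalar_apply]
  · have hlk : l ≠ k := fun h => hkl h.symm
    simp [Matrix.scalar_apply, Matrix.diagonal_apply_ne _ hlk, Matrix.diagonal_apply_ne _ hkl]

/-- the standard graph-field automorphism -/
noncomputable def gfAut (σ : RingAut F) :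
    MulAut (Matrix.ProjectiveSpecialLinearGroup (Fin n) F) := pslField σ * pslInvT

theorem gfAut_mul_pslDiag (σ : RingAut F) (g : GL (Fin n) F) :
    (gfAut σ : MulAut (Matrix.ProjectiveSpecialLinearGroup (Fin n) F)) * pslDiag g =
      pslDiag (twInvT σ g) * gfAut σ := by
  unfold gfAut twInvT
  rw [MonoidHom.comp_apply, mul_assoc, pslInvT_mul_pslDiag, ← mul_assoc, pslField_mul_pslDiag,
    mul_assoc]

theorem gfAut_pow (σ : RingAut F) (k : ℕ) :
    (gfAut σ : MulAut (Matrix.ProjectiveSpecialLinearGroup (Fin n) F)) ^ k =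
      pslField (σ ^ k) * pslInvT ^ k := by
  unfold gfAut
  have hc : Commute (pslField σ : MulAut (Matrix.ProjectiveSpecialLinearGroup (Fin n) F))
      pslInvT := (pslInvT_mul_pslField σ).symm
  rw [hc.mul_pow, map_pow]

theorem pslInvT_pow_two_mul (m : ℕ) :
    (pslInvT : MulAut (Matrix.ProjectiveSpecialLinearGroup (Fin n) F)) ^ (2 * m) = 1 := by
  rw [pow_mul, pow_two, pslInvT_mul_self, one_pow]

/-- a standard graph-field automorphism of prime order is an involution -/
theorem gfAut_prime_order (hn : 3 ≤ n) (σ : RingAut F) {r : ℕ} (hr : r.Prime)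
    (hord : orderOf (gfAut σ : MulAut (Matrix.ProjectiveSpecialLinearGroup (Fin n) F)) = r) :
    r = 2 ∧ σ ^ 2 = 1 := by
  have hpow : (gfAut σ : MulAut (Matrix.ProjectiveSpecialLinearGroup (Fin n) F)) ^ r = 1 := by
    rw [← hord]; exact pow_orderOf_eq_one _
  have hr2 : r = 2 := by
    by_contra hne
    rcases hr.eq_two_or_odd' with h | h
    · exact hne h
    · obtain ⟨m, hm⟩ := h
      rw [gfAut_pow, hm, pow_succ (pslInvT) (2 * m), pslInvT_pow_two_mul, one_mul] at hpow
      have := pslDiag_mul_pslField_mul_pslInvT_ne_one hn (1 : GL (Fin n) F) (σ ^ (2 * m + 1))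
      apply this
      rw [map_one, one_mul]
      exact hpow
  refine ⟨hr2, ?_⟩
  rw [hr2, gfAut_pow, pow_two (pslInvT), pslInvT_mul_self, mul_one] at hpow
  exact pslField_injective (by omega) (hpow.trans (map_one _).symm)

theorem gfAut_sq (σ : RingAut F) (hσ2 : σ ^ 2 = 1) :
    (gfAut σ : MulAut (Matrix.ProjectiveSpecialLinearGroup (Fin n) F)) ^ 2 = 1 := by
  rw [gfAut_pow, hσ2, map_one, pow_two, pslInvT_mul_self, one_mul]

theorem conj_gfAut (B : GL (Fin n) F) (σ : RingAut F) :
    (pslDiag B : MulAut (Matrix.ProjectiveSpecialLinearGroup (Fin n) F)) * gfAut σ *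
      (pslDiag B)⁻¹ = pslDiag (B * (twInvT σ B)⁻¹) * gfAut σ := by
  have h1 := gfAut_mul_pslDiag (n := n) σ B
  rw [mul_inv_eq_iff_eq_mul, map_mul, map_inv]
  calc pslDiag B * gfAut σ
      = pslDiag B * (pslDiag (twInvT σ B))⁻¹ * (pslDiag (twInvT σ B) * gfAut σ) := by
        simp only [mul_assoc, inv_mul_cancel_left]
    _ = _ := by rw [← h1]; simp only [mul_assoc]

theorem scalar_injective (hn : 1 ≤ n) :
    Function.Injective (Matrix.GeneralLinearGroup.scalar (Fin n) : Fˣ →* GL (Fin n) F) := by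
  intro a b hab
  have h1 := congrArg (fun g : GL (Fin n) F => (g : Matrix (Fin n) (Fin n) F) ⟨0, hn⟩ ⟨0, hn⟩) hab
  simp only [Matrix.GeneralLinearGroup.coe_scalar, Matrix.scalar_apply,
    Matrix.diagonal_apply_eq] at h1
  exact Units.ext h1

/-- **the coset of a graph-field automorphism**: involutions of `Inndiag · φ_σ ι` are
`Inndiag`-conjugate to `φ_σ ι` -/
theorem gf_coset_conj [Finite F] (hn : 2 ≤ n) (σ : RingAut F) (hσ : σ ≠ 1) (hσ2 : σ ^ 2 = 1)
    (g : GL (Fin n) F)
    (h : ((pslDiag g : MulAut (Matrix.ProjectiveSpecialLinearGroup (Fin n) F)) *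
      gfAut σ) ^ 2 = 1) :
    ∃ B : GL (Fin n) F,
      (pslDiag g : MulAut (Matrix.ProjectiveSpecialLinearGroup (Fin n) F)) * gfAut σ =
        pslDiag B * gfAut σ * (pslDiag B)⁻¹ := by
  have hσ2' : ∀ a : F, σ (σ a) = a := by
    intro a
    have := DFunLike.congr_fun hσ2 a
    rwa [pow_two, RingAut.mul_apply, RingAut.one_apply] at this
  have hσ' : ((σ : F ≃+* F) : F →+* F) ≠ RingHom.id F := by
    intro h
    apply hσ
    apply RingEquiv.ext
    intro a
    exact DFunLike.congr_fun h a
  -- `g τ(g)` is a scalar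
  have h1 : (pslDiag (g * twInvT σ g) :
      MulAut (Matrix.ProjectiveSpecialLinearGroup (Fin n) F)) = 1 := by
    have h2 := gfAut_mul_pslDiag (n := n) σ g
    have h3 := gfAut_sq (n := n) σ hσ2
    rw [pow_two] at h h3
    rw [map_mul]
    calc pslDiag g * pslDiag (twInvT σ g)
        = pslDiag g * pslDiag (twInvT σ g) * (gfAut σ * gfAut σ) := by rw [h3, mul_one]
      _ = pslDiag g * (pslDiag (twInvT σ g) * gfAut σ) * gfAut σ := by simp only [mul_assoc]
      _ = pslDiag g * gfAut σ * (pslDiag g * gfAut σ) := by rw [← h2]; simp only [mul_assoc]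
      _ = 1 := h
  have h4 : g * twInvT σ g ∈ Subgroup.center (GL (Fin n) F) := by
    rw [← ker_pslDiag hn]; exact h1
  rw [Matrix.GeneralLinearGroup.center_eq_range_scalar] at h4
  obtain ⟨c, hc⟩ := h4
  -- `c σ(c) = 1`
  have hc2 : twInvT σ g * g = Matrix.GeneralLinearGroup.scalar (Fin n) c := by
    have : twInvT σ g * g = g⁻¹ * (g * twInvT σ g) * g := by group
    rw [this, ← hc]
    have hcen : Matrix.GeneralLinearGroup.scalar (Fin n) c ∈ Subgroup.center (GL (Fin n) F) := by
      rw [Matrix.GeneralLinearGroup.center_eq_range_scalar]; exact ⟨c, rfl⟩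
    rw [Subgroup.mem_center_iff] at hcen
    rw [mul_assoc, ← hcen g, ← mul_assoc, inv_mul_cancel, one_mul]
  have hc3 : c * Units.map (((σ : F ≃+* F) : F →+* F) : F →* F) c = 1 := by
    have e1 := congrArg (twInvT σ) hc
    rw [map_mul, twInvT_twInvT σ hσ2', hc2, twInvT_scalar] at e1
    have e2 := scalar_injective (F := F) (by omega : 1 ≤ n) e1
    rw [inv_eq_iff_eq_inv.mp e2, mul_inv_cancel]
  have hc4 : (c : F) * ((σ : F ≃+* F) : F →+* F) (c : F) = 1 := by
    have := congrArg Units.val hc3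
    rwa [Units.val_mul, Units.val_one] at this
  obtain ⟨y, hy0, hy⟩ := Cfsg.Agent.Lib.Helper36.hilbert90_invol
    ((σ : F ≃+* F) : F →+* F) hσ' hσ2' (c : F) hc4
  -- rescale `g`
  let yu : Fˣ := Units.mk0 y hy0
  let g' : GL (Fin n) F := Matrix.GeneralLinearGroup.scalar (Fin n) yu * g
  have hg' : (pslDiag g' : MulAut (Matrix.ProjectiveSpecialLinearGroup (Fin n) F)) = pslDiag g := by
    show pslDiag (Matrix.GeneralLinearGroup.scalar (Fin n) yu * g) = _
    rw [map_mul, pslDiag_scalar, one_mul]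
  have hherm : g' * twInvT σ g' = 1 := by
    show Matrix.GeneralLinearGroup.scalar (Fin n) yu * g *
      twInvT σ (Matrix.GeneralLinearGroup.scalar (Fin n) yu * g) = 1
    rw [map_mul, twInvT_scalar]
    have hcen : ∀ (d : Fˣ) (k : GL (Fin n) F),
        k * Matrix.GeneralLinearGroup.scalar (Fin n) d =
          Matrix.GeneralLinearGroup.scalar (Fin n) d * k := by
      intro d k
      have hcen : Matrix.GeneralLinearGroup.scalar (Fin n) d ∈
          Subgroup.center (GL (Fin n) F) := by
        rw [Matrix.GeneralLinearGroup.center_eq_range_scalar]; exact ⟨d, rfl⟩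
      rw [Subgroup.mem_center_iff] at hcen
      exact hcen k
    calc Matrix.GeneralLinearGroup.scalar (Fin n) yu * g *
          (Matrix.GeneralLinearGroup.scalar (Fin n)
            (Units.map (((σ : F ≃+* F) : F →+* F) : F →* F) yu)⁻¹ * twInvT σ g)
        = Matrix.GeneralLinearGroup.scalar (Fin n) yu * (g *
          Matrix.GeneralLinearGroup.scalar (Fin n)
            (Units.map (((σ : F ≃+* F) : F →+* F) : F →* F) yu)⁻¹) * twInvT σ g := by
          simp only [mul_assoc]
      _ = Matrix.GeneralLinearGroup.scalar (Fin n) yu *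
          Matrix.GeneralLinearGroup.scalar (Fin n)
            (Units.map (((σ : F ≃+* F) : F →+* F) : F →* F) yu)⁻¹ * (g * twInvT σ g) := by
          rw [hcen]; simp only [mul_assoc]
      _ = Matrix.GeneralLinearGroup.scalar (Fin n)
            (yu * (Units.map (((σ : F ≃+* F) : F →+* F) : F →* F) yu)⁻¹ * c) := by
          rw [← hc, map_mul, map_mul]
      _ = 1 := by
          have : yu * (Units.map (((σ : F ≃+* F) : F →+* F) : F →* F) yu)⁻¹ * c = 1 := by
            rw [mul_assoc, mul_comm _ c, ← mul_assoc, mul_inv_eq_one]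
            apply Units.ext
            rw [Units.val_mul]
            show y * (c : F) = σ y
            rw [mul_comm]
            exact hy.symm
          rw [this, map_one]
  -- the matrix of `g'` is Hermitian
  have hH : ∀ k l, σ ((g' : Matrix (Fin n) (Fin n) F) k l) =
      (g' : Matrix (Fin n) (Fin n) F) l k := by
    have e1 : g' = (twInvT σ g')⁻¹ := eq_inv_of_mul_eq_one_left hherm
    have e2 := congrArg (fun k : GL (Fin n) F => (k : Matrix (Fin n) (Fin n) F)) e1
    simp only [twInvT_inv_coe] at e2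
    intro k l
    have e3 := congrFun (congrFun e2 l) k
    rw [Matrix.map_apply, Matrix.transpose_apply] at e3
    exact e3.symm
  have hG'unit : IsUnit (g' : Matrix (Fin n) (Fin n) F) := ⟨g', rfl⟩
  obtain ⟨P, hP⟩ := exists_orthonormal_matrix σ hσ hσ2' _ hG'unit hH
  have hPunit : IsUnit P := (Matrix.isUnit_iff_isUnit_det P).mpr (Matrix.isUnit_det_of_left_inverse hP)
  let Pg : GL (Fin n) F := hPunit.unit
  have hPg : (twInvT σ Pg)⁻¹ * g' * Pg = 1 := by
    apply Units.ext
    rw [Units.val_mul, Units.val_mul, twInvT_inv_coe]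
    exact hP
  refine ⟨twInvT σ Pg, ?_⟩
  rw [conj_gfAut, twInvT_twInvT σ hσ2', ← hg']
  congr 2
  have : g' = twInvT σ Pg * ((twInvT σ Pg)⁻¹ * g' * Pg) * Pg⁻¹ := by group
  rw [this, hPg, mul_one]

end Cfsg.Agent.Lib.Helper45.PSLField
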